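import Groth.Agent.Lib.PureDesc13.Stage
import Groth.Agent.Lib.RGProj13.HensML
import Groth.Agent.Lib.RGProj13.SemiLocal
import Groth.Agent.Lib.RelAss13.Cons
import Groth.Agent.S1219
import Groth.Agent.S1255

/-!
A criterion for purity along a fibre in terms of the fibres of a model over an étale neighbourhood.
-/

set_option autoImplicit false
set_option linter.style.haveILetI false
set_option linter.unusedSectionVars false
universe u

open TensorProduct

namespace GrothLib.PureDesc13

open GrothLib.RelAss13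

attribute [local instance] Algebra.TensorProduct.rightAlgebra

/-- The étale neighbourhood obtained by base change. -/
theorem exists_point {R R' T : Type u} [CommRing R] [CommRing R'] [CommRing T] [Algebra R R'] [Algebra R T]
    {p₀ : Ideal R} [p₀.IsPrime] {p' : Ideal R'} [p'.IsPrime] (h : FlatCA.IsEtaleNhd R R' p₀ p')
    (pT : Ideal T) [pT.IsPrime] (hpT : pT.LiesOver p₀) :
    ∃ (P : Ideal (R' ⊗[R] T)) (_ : P.IsPrime),
      FlatCA.IsEtaleNhd T (R' ⊗[R] T) pT P ∧ P.comap (algebraMap R' (R' ⊗[R] T)) = p' := by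
  haveI : Algebra.Etale R R' := h.1
  obtain ⟨ho, hb⟩ := h.2
  haveI := hpT
  obtain ⟨P, hP, hPp, hPT, hbij, -⟩ := GrothLib.RG6.Dev.exists_baseChange_point (B := T) p₀ p' ho hb pT
  haveI : Algebra.IsPushout R R' T (R' ⊗[R] T) := inferInstance
  haveI : Algebra.IsPushout R T R' (R' ⊗[R] T) := Algebra.IsPushout.symm inferInstance
  refine ⟨P, hP, ⟨Algebra.Etale.of_equiv (Algebra.IsPushout.equiv R T R' (R' ⊗[R] T)), hbij⟩, hPp.over.symm⟩

/-- `KillFree` along a base change. -/
theorem killFree_baseChange {A₀ A B₀ B M₀ M : Type u} [CommRing A₀] [CommRing A] [CommRing B₀] [CommRing B]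
    [Algebra A₀ A] [Algebra A₀ B₀] [Algebra A B] [Algebra A₀ B] [Algebra B₀ B] [IsScalarTower A₀ A B]
    [IsScalarTower A₀ B₀ B] [hpo : Algebra.IsPushout A₀ A B₀ B] [AddCommGroup M₀] [Module B₀ M₀] [Module A₀ M₀]
    [IsScalarTower A₀ B₀ M₀] [AddCommGroup M] [Module B M] [Module B₀ M] [IsScalarTower B₀ B M] [Module A M]
    [IsScalarTower A B M] {φ : M₀ →ₗ[B₀] M} (hφ : IsBaseChange B φ) (J : Ideal B₀) (hJ : J.FG)
    (t : Ideal A) [t.IsPrime] (t₀ : Ideal A₀) [t₀.IsPrime] (h : t₀ = t.comap (algebraMap A₀ A)) :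
    KillFree M (J.map (algebraMap B₀ B)) t ↔ KillFree M₀ J t₀ := by
  obtain ⟨r, j, hj⟩ := Submodule.fg_iff_exists_fin_generating_family.1 hJ
  have hJ' : J = Ideal.span (Set.range j) := hj.symm
  subst hJ'
  have hmap : (Ideal.span (Set.range j)).map (algebraMap B₀ B) = Ideal.span (Set.range (algebraMap B₀ B ∘ j)) := by
    rw [Ideal.map_span, ← Set.range_comp]
  rw [hmap, killFree_span_iff, killFree_span_iff, ← injFib_baseChange _ t t₀ h]
  let e : A ⊗[A₀] M₀ ≃ₗ[A] M :=
    (Algebra.IsPushout.cancelBaseChange A₀ A B₀ B M₀).symm ≪≫ₗ hφ.equiv.restrictScalars A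
  have he : ∀ (a : A) (m : M₀), e (a ⊗ₜ m) = a • φ m := fun a m => by
    show hφ.equiv ((Algebra.IsPushout.cancelBaseChange A₀ A B₀ B M₀).symm (a ⊗ₜ m)) = _
    rw [Algebra.IsPushout.cancelBaseChange_symm_tmul, hφ.equiv_tmul, algebraMap_smul]
  let e' : A ⊗[A₀] (Fin r → M₀) ≃ₗ[A] (Fin r → M) :=
    TensorProduct.piRight A₀ A A (fun _ : Fin r => M₀) ≪≫ₗ LinearEquiv.piCongrRight fun _ => e
  refine (injFib_congr _ _ e e' (fun x => ?_) t).symm
  induction x using TensorProduct.induction_on with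
  | zero => simp
  | add a b ha hb => simp only [map_add, ha, hb]
  | tmul a m =>
    funext i
    show e (a ⊗ₜ (j i • m)) = algebraMap B₀ B (j i) • e (a ⊗ₜ m)
    rw [he, he, map_smul, ← algebraMap_smul B (j i) (φ m), smul_comm]

set_option maxHeartbeats 3200000 in
/-- Purity along the fibres over the points above `p₀` is read off from a model over an étale
neighbourhood. -/
theorem exists_criterion {R B₀ : Type u} [CommRing R] [CommRing B₀] [Algebra R B₀] [Algebra.FinitePresentation R B₀]
    (M₀ : Type u) [AddCommGroup M₀] [Module B₀ M₀] [Module R M₀] [IsScalarTower R B₀ M₀]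
    [Module.FinitePresentation B₀ M₀] (p₀ : Ideal R) [p₀.IsPrime]
    (hflat : ∀ (q : Ideal B₀) [q.IsPrime], q.LiesOver p₀ → FlatCA.FlatAt R q M₀) :
    ∃ (R' B' M' : Type u) (_ : CommRing R') (_ : Algebra R R') (_ : CommRing B') (_ : Algebra R' B')
      (_ : AddCommGroup M') (_ : Module B' M') (_ : Module R' M') (_ : IsScalarTower R' B' M')
      (p' : Ideal R') (_ : p'.IsPrime) (J : Ideal B'),
      FlatCA.IsEtaleNhd R R' p₀ p' ∧ Algebra.FinitePresentation R' B' ∧ Module.FinitePresentation B' M' ∧ J.FG ∧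
      ∀ (T BT NT : Type u) [CommRing T] [Algebra R T] [CommRing BT] [Algebra R BT] [Algebra T BT] [Algebra B₀ BT]
        [IsScalarTower R T BT] [IsScalarTower R B₀ BT] [Algebra.IsPushout R T B₀ BT]
        [AddCommGroup NT] [Module BT NT] [Module B₀ NT] [IsScalarTower B₀ BT NT] [Module T NT]
        [IsScalarTower T BT NT] (fT : M₀ →ₗ[B₀] NT), IsBaseChange BT fT →
        ∀ (pT : Ideal T) [pT.IsPrime], pT.LiesOver p₀ →
        (∀ (q : Ideal BT) [q.IsPrime], q.LiesOver pT → FlatCA.FlatAt T q NT) →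
        ∀ (T' : Type u) [CommRing T'] [Algebra R' T'] [Algebra T T'] [Algebra R T'] [IsScalarTower R R' T']
          [IsScalarTower R T T'] (P : Ideal T') [P.IsPrime],
          FlatCA.IsEtaleNhd T T' pT P → P.comap (algebraMap R' T') = p' →
          (FlatCA.IsPureAlong T BT NT pT ↔
            ∀ (t : Ideal T') [t.IsPrime], t ≤ P → KillFree M' J (t.comap (algebraMap R' T'))) := by
  obtain ⟨R', S', _, _, _, _, _, _, _, _, p', _, hnb, het, hcov, hproj⟩ :=
    GrothLib.RGProj13.exists_projective_fibre' (R := R) (S := B₀) (N := M₀) p₀ hflat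
  haveI : Algebra.Etale R R' := hnb.1
  haveI : Algebra.Etale B₀ S' := het
  obtain ⟨ho, -⟩ := hnb.2
  obtain ⟨B', M', _, _, _, _, _, _, _, _, _, _, _, _, f', hpo', hf'⟩ :=
    GrothLib.RG6.Impure.exists_data R B₀ M₀ R'
  haveI := hpo'
  let β : B' →ₐ[R] S' := Algebra.pushoutDesc (R := R) (R' := R') B' (IsScalarTower.toAlgHom R B₀ S')
    (IsScalarTower.toAlgHom R R' S') fun _ _ => Commute.all _ _
  letI : Algebra B' S' := β.toRingHom.toAlgebra
  haveI : IsScalarTower R' B' S' := IsScalarTower.of_algebraMap_eq fun x => by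
    show _ = β _
    exact (Algebra.pushoutDesc_right (R := R) B' (IsScalarTower.toAlgHom R B₀ S')
      (IsScalarTower.toAlgHom R R' S') (fun _ _ => Commute.all _ _) x).symm
  haveI : IsScalarTower B₀ B' S' := IsScalarTower.of_algebraMap_eq fun x => by
    show _ = β _
    exact (Algebra.pushoutDesc_left (R := R) (R' := R') B' (IsScalarTower.toAlgHom R B₀ S')
      (IsScalarTower.toAlgHom R R' S') (fun _ _ => Commute.all _ _) x).symm
  haveI : Algebra.Etale B₀ B' := Algebra.Etale.of_equiv (Algebra.IsPushout.equiv R B₀ R' B')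
  haveI : Algebra.Etale B' S' := Algebra.Etale.of_restrictScalars B₀ B' S'
  haveI : Algebra.IsPushout R R' B₀ B' := hpo'.symm
  haveI : Algebra.FinitePresentation R' B' :=
    (inferInstance : Algebra.FinitePresentation R' (R' ⊗[R] B₀)).equiv (Algebra.IsPushout.equiv R R' B₀ B')
  haveI : Module.FinitePresentation B' M' := Module.FinitePresentation.of_equiv hf'.equiv
  -- the image of the cover
  obtain ⟨J, hJ, hJset⟩ := PrimeSpectrum.isCompact_isOpen_iff_ideal.1
    ⟨isCompact_range (PrimeSpectrum.continuous_comap (algebraMap B' S')),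
      (PrimeSpectrum.isOpenMap_comap_of_hasGoingDown_of_finitePresentation (R := B') (S := S')).isOpen_range⟩
  have himg : ∀ (m : Ideal B') [m.IsPrime],
      (∃ m' : Ideal S', m'.IsPrime ∧ m'.comap (algebraMap B' S') = m) ↔ ¬ J ≤ m := fun m hm => by
    have h1 := Set.ext_iff.1 hJset ⟨m, hm⟩
    rw [Set.mem_compl_iff, PrimeSpectrum.mem_zeroLocus, SetLike.coe_subset_coe] at h1
    rw [h1]
    exact ⟨fun ⟨m', hm', h⟩ => ⟨⟨m', hm'⟩, PrimeSpectrum.ext h⟩,
      fun ⟨x, hx⟩ => ⟨x.asIdeal, x.isPrime, congrArg PrimeSpectrum.asIdeal hx⟩⟩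
  have hres : ∀ a : R', ∃ r t : R, t ∉ p₀ ∧ algebraMap R R' t * a - algebraMap R R' r ∈ p' := fun a => by
    obtain ⟨r, t, ht, hm⟩ := GrothLib.RGProj13.exists_frac_residue hnb (algebraMap R' (Localization.AtPrime p') a)
    refine ⟨r, t, ht, ?_⟩
    rw [← IsLocalization.AtPrime.to_map_mem_maximal_iff (Localization.AtPrime p') p', map_sub, map_mul,
      ← IsScalarTower.algebraMap_apply, ← IsScalarTower.algebraMap_apply]
    exact hm
  refine ⟨R', B', M', inferInstance, inferInstance, inferInstance, inferInstance, inferInstance, inferInstance,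
    inferInstance, inferInstance, p', inferInstance, J, hnb, ‹_›, ‹_›, hJ, ?_⟩
  intro T BT NT _ _ _ _ _ _ _ _ hpoT _ _ _ _ _ _ fT hfT pT _ hpT hflatT T' _ _ _ _ _ _ P _ hnbT hPp'
  haveI := hpT
  haveI : Algebra.Etale T T' := hnbT.1
  haveI : Algebra.FinitePresentation T BT :=
    (inferInstance : Algebra.FinitePresentation T (T ⊗[R] B₀)).equiv (Algebra.IsPushout.equiv R T B₀ BT)
  haveI : Module.FinitePresentation BT NT := Module.FinitePresentation.of_equiv hfT.equiv
  obtain ⟨BA, NA, _, _, _, _, _, _, _, _, _, _, _, _, fA, hpoA, hfA⟩ :=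
    GrothLib.RG6.Impure.exists_data T BT NT T'
  haveI := hpoA
  letI : Algebra R BA := ((algebraMap T BA).comp (algebraMap R T)).toAlgebra
  haveI : IsScalarTower R T BA := IsScalarTower.of_algebraMap_eq fun _ => rfl
  haveI : IsScalarTower R T' BA := IsScalarTower.of_algebraMap_eq fun x => by
    show algebraMap T BA (algebraMap R T x) = algebraMap T' BA (algebraMap R T' x)
    rw [IsScalarTower.algebraMap_apply R T T', ← IsScalarTower.algebraMap_apply T T' BA]
  letI : Algebra B₀ BA := ((algebraMap BT BA).comp (algebraMap B₀ BT)).toAlgebra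
  haveI : IsScalarTower B₀ BT BA := IsScalarTower.of_algebraMap_eq fun _ => rfl
  haveI : IsScalarTower R BT BA := IsScalarTower.of_algebraMap_eq fun x => by
    show algebraMap T BA (algebraMap R T x) = algebraMap BT BA (algebraMap R BT x)
    rw [IsScalarTower.algebraMap_apply R T BT, ← IsScalarTower.algebraMap_apply T BT BA]
  haveI : IsScalarTower R B₀ BA := IsScalarTower.of_algebraMap_eq fun x => by
    show algebraMap T BA (algebraMap R T x) = algebraMap BT BA (algebraMap B₀ BT (algebraMap R B₀ x))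
    rw [← IsScalarTower.algebraMap_apply R B₀ BT, IsScalarTower.algebraMap_apply R T BT,
      ← IsScalarTower.algebraMap_apply T BT BA]
  haveI : Algebra.IsPushout T T' BT BA := hpoA.symm
  haveI hpoB : Algebra.IsPushout R T' B₀ BA :=
    (Algebra.IsPushout.comp_iff R T B₀ BT (T := T') (T' := BA)).2 inferInstance
  letI : Module B₀ NA := Module.compHom NA (algebraMap B₀ BA)
  haveI : IsScalarTower B₀ BA NA := IsScalarTower.of_algebraMap_smul fun _ _ => rfl
  haveI : IsScalarTower B₀ BT NA := IsScalarTower.of_algebraMap_smul fun b x => by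
    show algebraMap B₀ BT b • x = algebraMap B₀ BA b • x
    rw [IsScalarTower.algebraMap_apply B₀ BT BA]
    exact (algebraMap_smul BA (algebraMap B₀ BT b) x).symm
  have hfA' : IsBaseChange BA ((fA.restrictScalars B₀) ∘ₗ fT) := hfT.comp hfA
  obtain ⟨_, _, _, _, _, hsq, _, _, φ, hφ, -⟩ :=
    GrothLib.RG6.Impure.exists_map (A₁ := R') (A₂ := T') hpo' hf' hpoB.symm hfA'
  haveI := hsq
  -- the cover over the neighbourhood
  let S'' := BA ⊗[B'] S'
  haveI : IsScalarTower R' S' S'' := IsScalarTower.of_algebraMap_eq fun x => by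
    show algebraMap R' BA x ⊗ₜ[B'] (1 : S') = (1 : BA) ⊗ₜ[B'] algebraMap R' S' x
    rw [IsScalarTower.algebraMap_apply R' B' BA, IsScalarTower.algebraMap_apply R' B' S',
      Algebra.algebraMap_eq_smul_one (A := BA), Algebra.algebraMap_eq_smul_one (A := S'), TensorProduct.smul_tmul]
  haveI : IsScalarTower B₀ S' S'' := IsScalarTower.of_algebraMap_eq fun x => by
    show algebraMap B₀ BA x ⊗ₜ[B'] (1 : S') = (1 : BA) ⊗ₜ[B'] algebraMap B₀ S' x
    rw [IsScalarTower.algebraMap_apply B₀ B' BA, IsScalarTower.algebraMap_apply B₀ B' S',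
      Algebra.algebraMap_eq_smul_one (A := BA), Algebra.algebraMap_eq_smul_one (A := S'), TensorProduct.smul_tmul]
  haveI : IsScalarTower B₀ BT S'' := IsScalarTower.of_algebraMap_eq fun x => by
    show algebraMap B₀ BA x ⊗ₜ[B'] (1 : S') = algebraMap BT BA (algebraMap B₀ BT x) ⊗ₜ[B'] (1 : S')
    rfl
  haveI : Algebra.Etale BA S'' := inferInstance
  haveI : Algebra.Etale BT BA := Algebra.Etale.of_equiv (Algebra.IsPushout.equiv T BT T' BA)
  haveI : Algebra.Etale BT S'' := Algebra.Etale.comp BT BA S''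
  haveI : Algebra.FinitePresentation T' BA :=
    (inferInstance : Algebra.FinitePresentation T' (T' ⊗[T] BT)).equiv (Algebra.IsPushout.equiv T T' BT BA)
  haveI : Algebra.FinitePresentation T' S'' := Algebra.FinitePresentation.trans T' BA S''
  haveI hpoS : Algebra.IsPushout R' T' S' S'' := by
    haveI : Algebra.IsPushout R' B' T' BA := Algebra.IsPushout.symm inferInstance
    haveI : Algebra.IsPushout B' S' BA S'' := Algebra.IsPushout.symm inferInstance
    exact Algebra.IsPushout.symm ((Algebra.IsPushout.comp_iff R' B' T' BA (T := S') (T' := S'')).2 inferInstance)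
  haveI : Module.Projective R' (S' ⊗[B₀] M₀) := by
    haveI := hproj
    exact Module.Projective.of_equiv
      ({ RestrictScalars.addEquiv R' S' (S' ⊗[B₀] M₀) with
         map_smul' := fun a z => by
          show algebraMap R' S' a • RestrictScalars.addEquiv R' S' _ z = a • RestrictScalars.addEquiv R' S' _ z
          rw [algebraMap_smul] } : RestrictScalars R' S' (S' ⊗[B₀] M₀) ≃ₗ[R'] (S' ⊗[B₀] M₀))
  let N'' := S'' ⊗[BT] NT
  haveI : Module.Projective T' N'' :=
    GrothLib.RGProj13.projective_transfer (A' := R') (A := T') (SA := B₀) (B := BT) (C := S') (C₁ := S'') hfT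
  have hpure : FlatCA.IsPureAlong T' S'' N'' P :=
    (Groth.Agent.S1219.result (A := T') (B := S'') N'').1 inferInstance P
  have hcov' : ∀ (q : Ideal BT) [q.IsPrime], q.LiesOver pT →
      FlatCA.fiberIdeal pT q ∈ associatedPrimes (pT.Fiber BT) (FlatCA.fiberMod pT BT NT) →
      ∃ q' : Ideal S'', q'.IsPrime ∧ q'.comap (algebraMap BT S'') = q ∧ q'.comap (algebraMap T' S'') = P := by
    intro q _ hq _
    obtain ⟨hoT, -⟩ := hnbT.2
    haveI := hq
    let q₀ := q.comap (algebraMap B₀ BT)
    haveI : q₀.IsPrime := Ideal.IsPrime.comap _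
    have hq₀ : q₀.LiesOver p₀ := ⟨by
      show p₀ = (q.comap (algebraMap B₀ BT)).comap (algebraMap R B₀)
      rw [Ideal.comap_comap, ← IsScalarTower.algebraMap_eq R B₀ BT, IsScalarTower.algebraMap_eq R T BT,
        ← Ideal.comap_comap]
      exact hpT.over.trans (congrArg (Ideal.comap (algebraMap R T)) hq.over)⟩
    obtain ⟨q', hq', hq'B, hq'R⟩ := hcov q₀ hq₀
    obtain ⟨Q, hQ, hQq, hQP⟩ := exists_prime_pushout (R := T) (S := BT) (T := T') (W := BA) q P
      (hq.over.symm.trans hoT.over)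
    haveI := hQ
    haveI := hq'
    have heq : q'.comap (algebraMap B' S') = Q.comap (algebraMap B' BA) := by
      refine GrothLib.RGProj13.eq_of_residue_bijective (R := R) (S := B₀) (A := R') ho hres q₀ _ _ ⟨?_⟩ ⟨?_⟩ ⟨?_⟩ ⟨?_⟩
      · show q₀ = (q'.comap (algebraMap B' S')).comap (algebraMap B₀ B')
        rw [Ideal.comap_comap, ← IsScalarTower.algebraMap_eq B₀ B' S', hq'B]
      · show q₀ = (Q.comap (algebraMap B' BA)).comap (algebraMap B₀ B')
        rw [Ideal.comap_comap, ← IsScalarTower.algebraMap_eq B₀ B' BA, IsScalarTower.algebraMap_eq B₀ BT BA,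
          ← Ideal.comap_comap, hQq]
      · show p' = (q'.comap (algebraMap B' S')).comap (algebraMap R' B')
        rw [Ideal.comap_comap, ← IsScalarTower.algebraMap_eq R' B' S', hq'R]
      · show p' = (Q.comap (algebraMap B' BA)).comap (algebraMap R' B')
        rw [Ideal.comap_comap, ← IsScalarTower.algebraMap_eq R' B' BA, IsScalarTower.algebraMap_eq R' T' BA,
          ← Ideal.comap_comap, hQP, hPp']
    obtain ⟨M, hM, hMQ, -⟩ := exists_prime_pushout (R := B') (S := BA) (T := S') (W := S'') Q q' heq.symm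
    refine ⟨M, hM, ?_, ?_⟩
    · rw [IsScalarTower.algebraMap_eq BT BA S'', ← Ideal.comap_comap, hMQ, hQq]
    · rw [IsScalarTower.algebraMap_eq T' BA S'', ← Ideal.comap_comap, hMQ, hQP]
  have hiff := Groth.Agent.S1255.result (A := T) (B := BT) NT pT hflatT T' P hnbT S'' N''
    (TensorProduct.mk BT S'' NT 1) (TensorProduct.isBaseChange BT NT S'') hpure hcov' BA NA fA hfA
  rw [hiff]
  haveI : Module.Finite BA NA := Module.Finite.equiv hfA.equiv
  -- covered points are the points outside the closed set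
  have hcovered : ∀ (Q : Ideal BA) [Q.IsPrime],
      (∃ Q' : Ideal S'', Q'.IsPrime ∧ Q'.comap (algebraMap BA S'') = Q) ↔ ¬ J.map (algebraMap B' BA) ≤ Q := by
    intro Q _
    rw [Ideal.map_le_iff_le_comap, ← himg (Q.comap (algebraMap B' BA))]
    constructor
    · rintro ⟨Q', hQ', rfl⟩
      exact ⟨Q'.comap (algebraMap S' S''), Ideal.IsPrime.comap _, by
        rw [Ideal.comap_comap, Ideal.comap_comap, ← IsScalarTower.algebraMap_eq B' S' S'',
          ← IsScalarTower.algebraMap_eq B' BA S'']⟩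
    · rintro ⟨m', hm', h⟩
      obtain ⟨M, hM, hMQ, -⟩ := exists_prime_pushout (R := B') (S := BA) (T := S') (W := S'') Q m' h.symm
      exact ⟨M, hM, hMQ⟩
  refine forall_congr' fun t => forall_congr' fun _ => forall_congr' fun _ => ?_
  rw [← killFree_baseChange (A₀ := R') (A := T') (B₀ := B') (B := BA) hφ J hJ t (t.comap (algebraMap R' T')) rfl,
    killFree_iff]
  refine ⟨fun h Q _ hQ hass => (hcovered Q).1 (h Q hQ hass), fun h Q _ hQ hass => (hcovered Q).2 ?_⟩
  haveI := hQ
  exact h Q hass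

end GrothLib.PureDesc13
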