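import Groth.Agent.Lib.PureDesc13.Crit

/-!
Purity along a fibre comes from a stage.
-/

set_option autoImplicit false
set_option linter.style.haveILetI false
set_option linter.unusedSectionVars false
universe u

open TensorProduct

namespace GrothLib.PureDesc13

open GrothLib.RelAss13

attribute [local instance] Algebra.TensorProduct.rightAlgebra

/-- The upper part of a directed colimit. -/
theorem colim_above {ι : Type u} [Preorder ι] {G : ι → Type u} [∀ i, CommRing (G i)]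
    {g : ∀ i j, i ≤ j → G i →+* G j} {A : Type u} [CommRing A] [∀ i, Algebra (G i) A]
    (h : FlatCA.IsDirectedColimitRing G g A) (i₀ : ι) :
    FlatCA.IsDirectedColimitRing (fun j : {i // i₀ ≤ i} => G j.1) (fun j j' hjj => g j.1 j'.1 hjj) A := by
  obtain ⟨hdir, -, hrefl, htrans, hcomm, hsurj, hzero⟩ := h
  refine ⟨⟨fun a b => ?_⟩, ⟨⟨i₀, le_rfl⟩⟩, fun j => hrefl j.1, fun a b c hab hbc => htrans a.1 b.1 c.1 hab hbc,
    fun a b hab => hcomm a.1 b.1 hab, fun a => ?_, fun j x hx => ?_⟩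
  · obtain ⟨c, hc, hc'⟩ := directed_of (· ≤ ·) a.1 b.1
    exact ⟨⟨c, a.2.trans hc⟩, hc, hc'⟩
  · obtain ⟨i, x, hx⟩ := hsurj a
    obtain ⟨c, hc, hc'⟩ := directed_of (· ≤ ·) i₀ i
    exact ⟨⟨c, hc⟩, g i c hc' x, (RingHom.congr_fun (hcomm i c hc') x).trans hx⟩
  · obtain ⟨k, hk, hkx⟩ := hzero j.1 x hx
    exact ⟨⟨k, j.2.trans hk⟩, hk, hkx⟩

/-- The stage properties of a directed colimit of algebras. -/
theorem stage_props {R : Type u} [CommRing R] {ι : Type u} [Preorder ι] (G : ι → Type u) [∀ i, CommRing (G i)]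
    [∀ i, Algebra R (G i)] (g : ∀ i j, i ≤ j → G i →+* G j)
    (hg : ∀ i j (h : i ≤ j) (r : R), g i j h (algebraMap R (G i) r) = algebraMap R (G j) r)
    {A : Type u} [CommRing A] [Algebra R A] [∀ i, Algebra (G i) A] (hcolim : FlatCA.IsDirectedColimitRing G g A) :
    (∀ i i' : ι, ∃ j, ∃ (φ : G i →ₐ[R] G j) (φ' : G i' →ₐ[R] G j),
      (∀ x, algebraMap (G j) A (φ x) = algebraMap (G i) A x) ∧
      ∀ x, algebraMap (G j) A (φ' x) = algebraMap (G i') A x) ∧
    (∀ T : Finset A, ∃ i, (T : Set A) ⊆ Set.range (algebraMap (G i) A)) ∧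
    ∀ i (p : Finset (G i × G i)),
      (∀ x ∈ p, algebraMap (G i) A x.1 = algebraMap (G i) A x.2) →
      ∃ j, ∃ ψ : G i →ₐ[R] G j, (∀ x, algebraMap (G j) A (ψ x) = algebraMap (G i) A x) ∧
        ∀ x ∈ p, ψ x.1 = ψ x.2 := by
  classical
  obtain ⟨hdirι, hne, hrefl, htrans, hcomm, hsurj, hzero⟩ := hcolim
  let γ : ∀ i j, i ≤ j → G i →ₐ[R] G j := fun i j h => { g i j h with commutes' := hg i j h }
  have hγ : ∀ i j (h : i ≤ j) x, algebraMap (G j) A (γ i j h x) = algebraMap (G i) A x := fun i j h x =>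
    RingHom.congr_fun (hcomm i j h) x
  refine ⟨fun i i' => ?_, fun T => ?_, fun i p hp => ?_⟩
  · obtain ⟨j, h, h'⟩ := directed_of (· ≤ ·) i i'
    exact ⟨j, γ i j h, γ i' j h', hγ i j h, hγ i' j h'⟩
  · induction T using Finset.induction_on with
    | empty => exact ⟨hne.some, by simp⟩
    | insert a T _ ih =>
      obtain ⟨i, hi⟩ := ih
      obtain ⟨i', x, hx⟩ := hsurj a
      obtain ⟨j, h, h'⟩ := directed_of (· ≤ ·) i i'
      refine ⟨j, fun b hb => ?_⟩
      rcases Finset.mem_insert.1 (Finset.mem_coe.1 hb) with rfl | hb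
      · exact ⟨γ i' j h' x, (hγ i' j h' x).trans hx⟩
      · obtain ⟨y, hy⟩ := hi (Finset.mem_coe.2 hb)
        exact ⟨γ i j h y, (hγ i j h y).trans hy⟩
  · induction p using Finset.induction_on with
    | empty => exact ⟨i, AlgHom.id R (G i), fun _ => rfl, by simp⟩
    | insert a p _ ih =>
      obtain ⟨j, ψ, hψ, hψp⟩ := ih fun x hx => hp x (Finset.mem_insert_of_mem hx)
      obtain ⟨k, h, hk⟩ := hzero j (ψ a.1 - ψ a.2) (by
        rw [map_sub, hψ, hψ, hp a (Finset.mem_insert_self a p), sub_self])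
      refine ⟨k, (γ j k h).comp ψ, fun x => ?_, fun x hx => ?_⟩
      · exact (hγ j k h (ψ x)).trans (hψ x)
      · rcases Finset.mem_insert.1 hx with rfl | hx
        · have hk' : γ j k h (ψ x.1 - ψ x.2) = 0 := hk
          rw [map_sub] at hk'
          exact sub_eq_zero.1 hk'
        · rw [AlgHom.comp_apply, AlgHom.comp_apply, hψp x hx]

/-- A map from a finitely generated ring to a directed colimit factors through a stage. -/
theorem exists_lift_finiteType {ι : Type u} [Preorder ι] {G : ι → Type u} [∀ i, CommRing (G i)]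
    {g : ∀ i j, i ≤ j → G i →+* G j} {A : Type u} [CommRing A] [∀ i, Algebra (G i) A]
    (h : FlatCA.IsDirectedColimitRing G g A) (A₀ : Type u) [CommRing A₀] [Algebra.FiniteType ℤ A₀] (f : A₀ →+* A) :
    ∃ (i : ι) (φ : A₀ →+* G i), (algebraMap (G i) A).comp φ = f := by
  classical
  obtain ⟨hdirι, hne, hrefl, htrans, hcomm, hsurj, hzero⟩ := h
  haveI := hne
  obtain ⟨n, π, hπ⟩ := Algebra.FiniteType.iff_quotient_mvPolynomial''.1 (inferInstance : Algebra.FiniteType ℤ A₀)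
  choose idx y hy using fun l : Fin n => hsurj (f (π (MvPolynomial.X l)))
  obtain ⟨i, hi⟩ := Finset.exists_le (Finset.univ.image idx)
  have hle : ∀ l, idx l ≤ i := fun l => hi _ (Finset.mem_image_of_mem _ (Finset.mem_univ l))
  let ψ : MvPolynomial (Fin n) ℤ →+* G i :=
    MvPolynomial.eval₂Hom (Int.castRingHom _) fun l => g (idx l) i (hle l) (y l)
  have hψ : (algebraMap (G i) A).comp ψ = f.comp π.toRingHom := by
    refine MvPolynomial.ringHom_ext (fun z => ?_) fun l => ?_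
    · simp [ψ]
    · show algebraMap (G i) A (MvPolynomial.eval₂Hom _ _ (MvPolynomial.X l)) = f (π (MvPolynomial.X l))
      rw [MvPolynomial.eval₂Hom_X']
      exact (RingHom.congr_fun (hcomm (idx l) i (hle l)) (y l)).trans (hy l)
  obtain ⟨S, hS⟩ := IsNoetherian.noetherian (RingHom.ker π.toRingHom)
  have hkill : ∀ x : S, algebraMap (G i) A (ψ x) = 0 := fun x => by
    have hx : x.1 ∈ RingHom.ker π.toRingHom := hS ▸ Submodule.subset_span x.2
    rw [← RingHom.comp_apply, hψ, RingHom.comp_apply, RingHom.mem_ker.1 hx, map_zero]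
  choose jdx hjdx hjx using fun x : S => hzero i (ψ x) (hkill x)
  obtain ⟨j, hj⟩ := Finset.exists_le (insert i (Finset.univ.image jdx))
  have hij : i ≤ j := hj i (Finset.mem_insert_self _ _)
  have hker : RingHom.ker π.toRingHom ≤ RingHom.ker ((g i j hij).comp ψ) := by
    rw [← hS, Submodule.span_le]
    intro x hx
    have hxj : jdx ⟨x, hx⟩ ≤ j :=
      hj _ (Finset.mem_insert_of_mem (Finset.mem_image_of_mem _ (Finset.mem_univ _)))
    show g i j hij (ψ x) = 0
    rw [← htrans i (jdx ⟨x, hx⟩) j (hjdx _) hxj, RingHom.comp_apply, hjx ⟨x, hx⟩, map_zero]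
  refine ⟨j, RingHom.liftOfSurjective π.toRingHom hπ ⟨(g i j hij).comp ψ, hker⟩, ?_⟩
  ext a
  obtain ⟨a, rfl⟩ := hπ a
  show algebraMap (G j) A (RingHom.liftOfSurjective π.toRingHom hπ ⟨(g i j hij).comp ψ, hker⟩ (π.toRingHom a)) =
    f (π.toRingHom a)
  rw [RingHom.liftOfRightInverse_comp_apply]
  exact (RingHom.congr_fun (hcomm i j hij) (ψ a)).trans (RingHom.congr_fun hψ a)

variable {R A : Type u} [CommRing R] [CommRing A] [Algebra R A] {ι : Type u} (G : ι → Type u) [∀ i, CommRing (G i)]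
  [∀ i, Algebra R (G i)] [∀ i, Algebra (G i) A] [∀ i, IsScalarTower R (G i) A]
  (hdir : ∀ i i' : ι, ∃ j, ∃ (φ : G i →ₐ[R] G j) (φ' : G i' →ₐ[R] G j),
    (∀ x, algebraMap (G j) A (φ x) = algebraMap (G i) A x) ∧
    ∀ x, algebraMap (G j) A (φ' x) = algebraMap (G i') A x)
  (hlift : ∀ T : Finset A, ∃ i, (T : Set A) ⊆ Set.range (algebraMap (G i) A))
  (heq : ∀ i (p : Finset (G i × G i)),
    (∀ x ∈ p, algebraMap (G i) A x.1 = algebraMap (G i) A x.2) →
    ∃ j, ∃ ψ : G i →ₐ[R] G j, (∀ x, algebraMap (G j) A (ψ x) = algebraMap (G i) A x) ∧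
      ∀ x ∈ p, ψ x.1 = ψ x.2)

include hdir hlift heq in
set_option maxHeartbeats 3200000 in
/-- Purity along a fibre, for a module flat along that fibre over the base, comes from a stage. -/
theorem exists_stage_pure {B₀ : Type u} [CommRing B₀] [Algebra R B₀] [Algebra.FinitePresentation R B₀]
    (M₀ : Type u) [AddCommGroup M₀] [Module B₀ M₀] [Module R M₀] [IsScalarTower R B₀ M₀]
    [Module.FinitePresentation B₀ M₀]
    {B N : Type u} [CommRing B] [Algebra R B] [Algebra A B] [Algebra B₀ B] [IsScalarTower R A B] [IsScalarTower R B₀ B]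
    [Algebra.IsPushout R A B₀ B] [AddCommGroup N] [Module B N] [Module B₀ N] [IsScalarTower B₀ B N] [Module A N]
    [IsScalarTower A B N] {f : M₀ →ₗ[B₀] N} (hf : IsBaseChange B f) (p : Ideal A) [p.IsPrime]
    (hflat₀ : ∀ (q : Ideal B₀) [q.IsPrime], q.LiesOver (p.comap (algebraMap R A)) → FlatCA.FlatAt R q M₀)
    (hflat : ∀ (q : Ideal B) [q.IsPrime], q.LiesOver p → FlatCA.FlatAt A q N)
    (hpure : FlatCA.IsPureAlong A B N p) :
    ∃ k, ∀ (Bk Nk : Type u) [CommRing Bk] [Algebra B₀ Bk] [Algebra (G k) Bk] [Algebra R Bk] [IsScalarTower R B₀ Bk]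
      [IsScalarTower R (G k) Bk] [Algebra.IsPushout R (G k) B₀ Bk]
      [AddCommGroup Nk] [Module Bk Nk] [Module B₀ Nk] [IsScalarTower B₀ Bk Nk] [Module (G k) Nk]
      [IsScalarTower (G k) Bk Nk] (fk : M₀ →ₗ[B₀] Nk), IsBaseChange Bk fk →
      FlatCA.IsPureAlong (G k) Bk Nk (p.comap (algebraMap (G k) A)) ∧
      ∀ (q : Ideal Bk) [q.IsPrime], q.LiesOver (p.comap (algebraMap (G k) A)) → FlatCA.FlatAt (G k) q Nk := by
  classical
  haveI : Nonempty ι := ⟨(hlift ∅).choose⟩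
  let p₀ := p.comap (algebraMap R A)
  haveI hpp₀ : p.LiesOver p₀ := ⟨rfl⟩
  obtain ⟨R', B', M', _, _, _, _, _, _, _, _, p', _, J, hnb, _, _, hJ, crit⟩ :=
    exists_criterion (R := R) (B₀ := B₀) M₀ p₀ hflat₀
  obtain ⟨P, _, hPnb, hPp'⟩ := exists_point (T := A) hnb p hpp₀
  -- the criterion holds at the limit
  have hgood := (crit A B N f hf p hpp₀ hflat (R' ⊗[R] A) P hPnb hPp').1 hpure
  obtain ⟨D, hD⟩ := PrimeSpectrum.exists_constructibleSetData_iff.2 (isConstructible_killFree (A := R') (B := B') M' J hJ).compl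
  -- each bad piece is missed at a stage
  have hpiece : ∀ C ∈ D, ∃ (k : ι) (s : R' ⊗[R] G k) (n : ℕ),
      Algebra.TensorProduct.map (AlgHom.id R R') (IsScalarTower.toAlgHom R (G k) A) s ∉ P ∧
      s * ((C.f ^ n) ⊗ₜ[R] (1 : G k)) ∈ (Ideal.span (Set.range C.g)).map (algebraMap R' (R' ⊗[R] G k)) := by
    intro C hC
    let A' := R' ⊗[R] A
    let I := (Ideal.span (Set.range C.g)).map (algebraMap R' A')
    obtain ⟨n, s, hs, hmem⟩ : ∃ (n : ℕ) (s : A'), s ∉ P ∧ s * ((C.f ^ n) ⊗ₜ[R] (1 : A)) ∈ I := by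
      by_contra! hcon
      obtain ⟨Q, hQ, hIQ, hdis⟩ := Ideal.exists_le_prime_disjoint I
        (Submonoid.powers (algebraMap R' A' C.f) ⊔ P.primeCompl) (Set.disjoint_left.2 fun x hxI hx => by
          obtain ⟨a, ⟨n, rfl⟩, b, hb, rfl⟩ := Submonoid.mem_sup.1 hx
          refine hcon n b hb ?_
          rw [mul_comm, show (C.f ^ n) ⊗ₜ[R] (1 : A) = algebraMap R' A' (C.f ^ n) from rfl, map_pow]
          exact hxI)
      have hQP : Q ≤ P := fun x hx => by
        by_contra hxP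
        exact Set.disjoint_left.1 hdis hx (Submonoid.mem_sup_right hxP)
      have hfQ : algebraMap R' A' C.f ∉ Q := fun h =>
        Set.disjoint_left.1 hdis h (Submonoid.mem_sup_left (Submonoid.mem_powers _))
      have hbad : (⟨Q.comap (algebraMap R' A'), inferInstance⟩ : PrimeSpectrum R') ∈ C.toSet := by
        refine ⟨?_, ?_⟩
        · rw [PrimeSpectrum.mem_zeroLocus]
          rintro _ ⟨l, rfl⟩
          exact hIQ (Ideal.mem_map_of_mem _ (Ideal.subset_span ⟨l, rfl⟩))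
        · rw [PrimeSpectrum.mem_zeroLocus, Set.singleton_subset_iff]
          exact hfQ
      have h1 : (⟨Q.comap (algebraMap R' A'), inferInstance⟩ : PrimeSpectrum R') ∈
          PrimeSpectrum.ConstructibleSetData.toSet D := Set.mem_iUnion₂.2 ⟨C, hC, hbad⟩
      rw [hD] at h1
      exact h1 (hgood Q hQP)
    obtain ⟨k, s', hs', hk⟩ := exists_stage_mem G hdir hlift heq (Ideal.span (Set.range C.g)) (C.f ^ n) s hmem
    exact ⟨k, s', n, by rwa [hs'], hk⟩
  choose! kC sC nC hsC hkC using hpiece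
  obtain ⟨k, hk⟩ := GrothLib.FlatLimit.exists_common G hdir (D.image kC)
  refine ⟨k, fun Bk Nk _ _ _ _ _ _ hpok _ _ _ _ _ _ fk hfk => ?_⟩
  let pk := p.comap (algebraMap (G k) A)
  haveI hpk₀ : pk.LiesOver p₀ := ⟨by
    show p.comap (algebraMap R A) = (p.comap (algebraMap (G k) A)).comap (algebraMap R (G k))
    rw [Ideal.comap_comap, ← IsScalarTower.algebraMap_eq R (G k) A]⟩
  have hflatk : ∀ (q : Ideal Bk) [q.IsPrime], q.LiesOver pk → FlatCA.FlatAt (G k) q Nk := by
    intro q _ hq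
    haveI : Algebra.IsPushout R R B₀ B₀ := inferInstance
    have hid : IsBaseChange B₀ (LinearMap.id : M₀ →ₗ[B₀] M₀) := IsBaseChange.ofEquiv (LinearEquiv.refl B₀ M₀)
    refine flatAt_up (R := R) (S := R) (BS := B₀) M₀ hid hfk (algebraMap B₀ Bk) (fun x => ?_) (fun _ => rfl) q ?_
    · rw [← IsScalarTower.algebraMap_apply R B₀ Bk, ← IsScalarTower.algebraMap_apply R (G k) Bk]
    · refine hflat₀ _ ⟨?_⟩
      show p.comap (algebraMap R A) = (q.comap (algebraMap B₀ Bk)).comap (algebraMap R B₀)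
      rw [Ideal.comap_comap, ← IsScalarTower.algebraMap_eq R B₀ Bk, IsScalarTower.algebraMap_eq R (G k) Bk,
        IsScalarTower.algebraMap_eq R (G k) A, ← Ideal.comap_comap, ← Ideal.comap_comap]
      exact congrArg (Ideal.comap (algebraMap R (G k))) hq.over
  refine ⟨?_, hflatk⟩
  -- the point over the stage
  let mk : R' ⊗[R] G k →ₐ[R] R' ⊗[R] A := Algebra.TensorProduct.map (AlgHom.id R R') (IsScalarTower.toAlgHom R (G k) A)
  let Pk := P.comap mk.toRingHom
  have hPkp' : Pk.comap (algebraMap R' (R' ⊗[R] G k)) = p' := by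
    rw [← hPp', Ideal.comap_comap]
    congr 1
    ext r
    show mk (r ⊗ₜ (1 : G k)) = r ⊗ₜ (1 : A)
    simp [mk]
  obtain ⟨Q, _, hQnb, hQp'⟩ := exists_point (T := G k) hnb pk hpk₀
  have hPkQ : Pk = Q := by
    obtain ⟨ho, hb⟩ := hnb.2
    obtain ⟨hoQ, -⟩ := hQnb.2
    obtain ⟨hoP, -⟩ := hPnb.2
    obtain ⟨Q₀, _, -, -, -, huniq⟩ := GrothLib.RG6.Dev.exists_baseChange_point (B := G k) p₀ p' ho hb pk
    have h2 : Pk.comap (Algebra.TensorProduct.includeRight (R := R) (A := R') (B := G k)).toRingHom = pk := by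
      rw [Ideal.comap_comap]
      have : mk.toRingHom.comp (Algebra.TensorProduct.includeRight (R := R) (A := R') (B := G k)).toRingHom =
          (algebraMap A (R' ⊗[R] A)).comp (algebraMap (G k) A) := by
        ext x
        show mk ((1 : R') ⊗ₜ x) = (1 : R') ⊗ₜ algebraMap (G k) A x
        simp [mk]
      rw [this, ← Ideal.comap_comap]
      exact congrArg (Ideal.comap (algebraMap (G k) A)) hoP.over.symm
    exact (huniq Pk inferInstance ⟨hPkp'.symm⟩ h2).trans (huniq Q inferInstance ⟨hQp'.symm⟩ hoQ.over.symm).symm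
  refine (crit (G k) Bk Nk fk hfk pk hpk₀ hflatk (R' ⊗[R] G k) Q hQnb hQp').2 fun t _ ht => ?_
  by_contra hbad
  have h1 : (⟨t.comap (algebraMap R' (R' ⊗[R] G k)), inferInstance⟩ : PrimeSpectrum R') ∈
      PrimeSpectrum.ConstructibleSetData.toSet D := by
    rw [hD]
    exact hbad
  obtain ⟨C, hC, hg, hfC⟩ := Set.mem_iUnion₂.1 h1
  rw [PrimeSpectrum.mem_zeroLocus] at hg
  rw [PrimeSpectrum.mem_zeroLocus, Set.singleton_subset_iff] at hfC
  obtain ⟨φ, hφ⟩ := hk (kC C) (Finset.mem_image_of_mem kC hC)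
  let mφ : R' ⊗[R] G (kC C) →ₐ[R] R' ⊗[R] G k := Algebra.TensorProduct.map (AlgHom.id R R') φ
  have hcomp : ∀ w, mk (mφ w) =
      Algebra.TensorProduct.map (AlgHom.id R R') (IsScalarTower.toAlgHom R (G (kC C)) A) w := by
    intro w
    induction w using TensorProduct.induction_on with
    | zero => simp
    | add a b ha hb => simp only [map_add, ha, hb]
    | tmul r y => simp [mk, mφ, hφ]
  have hnot : mφ (sC C) ∉ t := fun hst => hsC C hC (by
    rw [← hcomp]
    exact hPkQ.symm.le (ht hst))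
  have hin : mφ (sC C * ((C.f ^ nC C) ⊗ₜ[R] (1 : G (kC C)))) ∈ t := by
    have h2 := Ideal.mem_map_of_mem mφ.toRingHom (hkC C hC)
    rw [Ideal.map_map] at h2
    refine Ideal.map_le_iff_le_comap.2 (Ideal.span_le.2 ?_) h2
    rintro _ ⟨l, rfl⟩
    show mφ (C.g l ⊗ₜ[R] (1 : G (kC C))) ∈ t
    rw [Algebra.TensorProduct.map_tmul, map_one, AlgHom.id_apply]
    exact hg ⟨l, rfl⟩
  rw [map_mul] at hin
  refine (‹t.IsPrime›.mem_or_mem hin).elim hnot fun h => ?_
  rw [Algebra.TensorProduct.map_tmul, map_one, AlgHom.id_apply] at h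
  refine hfC (‹t.IsPrime›.mem_of_pow_mem (nC C) ?_)
  have h3 : algebraMap R' (R' ⊗[R] G k) (C.f ^ nC C) ∈ t := h
  rwa [map_pow] at h3

end GrothLib.PureDesc13
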