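import Groth.Agent.Lib.FlatLimit.Global
import Groth.Agent.Lib.FlatLimit.Pointwise
import Groth.Agent.Lib.FlatLimit.Vanish
import Groth.Agent.Lib.RG6.Impure.Basic
import Groth.Agent.Lib.ProjPure13.EtaleAss
import Groth.Agent.Lib.FibreFlat.OpenLocus

/-!
Descent to a stage of flatness along a fibre and of membership in extended ideals.
-/

set_option autoImplicit false
set_option linter.style.haveILetI false
set_option linter.unusedSectionVars false
universe u

open TensorProduct

namespace GrothLib.PureDesc13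

attribute [local instance] Algebra.TensorProduct.rightAlgebra

/-- A pushout has a point over two compatible points. -/
theorem exists_prime_pushout {R S T W : Type u} [CommRing R] [CommRing S] [CommRing T] [CommRing W] [Algebra R S]
    [Algebra R T] [Algebra R W] [Algebra S W] [Algebra T W] [IsScalarTower R S W] [IsScalarTower R T W]
    [Algebra.IsPushout R S T W] (P : Ideal S) [P.IsPrime] (Q : Ideal T) [Q.IsPrime]
    (h : P.comap (algebraMap R S) = Q.comap (algebraMap R T)) :
    ∃ M : Ideal W, M.IsPrime ∧ M.comap (algebraMap S W) = P ∧ M.comap (algebraMap T W) = Q := by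
  let r : Ideal R := P.comap (algebraMap R S)
  haveI : r.IsPrime := Ideal.IsPrime.comap _
  letI : Algebra r.ResidueField P.ResidueField := (Ideal.ResidueField.map r P (algebraMap R S) rfl).toAlgebra
  letI : Algebra r.ResidueField Q.ResidueField := (Ideal.ResidueField.map r Q (algebraMap R T) h).toAlgebra
  haveI : IsScalarTower R r.ResidueField P.ResidueField := IsScalarTower.of_algebraMap_eq fun x => by
    rw [IsScalarTower.algebraMap_apply R S P.ResidueField]
    exact (Ideal.ResidueField.map_algebraMap r P _ _ x).symm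
  haveI : IsScalarTower R r.ResidueField Q.ResidueField := IsScalarTower.of_algebraMap_eq fun x => by
    rw [IsScalarTower.algebraMap_apply R T Q.ResidueField]
    exact (Ideal.ResidueField.map_algebraMap r Q _ _ x).symm
  let K := P.ResidueField ⊗[r.ResidueField] Q.ResidueField
  have hinj : Function.Injective (Algebra.TensorProduct.includeLeft : P.ResidueField →ₐ[r.ResidueField] K) :=
    Algebra.TensorProduct.includeLeft_injective (RingHom.injective _)
  haveI : Nontrivial K := hinj.nontrivial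
  let fS : S →ₐ[R] K := (Algebra.TensorProduct.includeLeft (R := r.ResidueField) (S := R)).comp
    (IsScalarTower.toAlgHom R S P.ResidueField)
  let fT : T →ₐ[R] K := ((Algebra.TensorProduct.includeRight (R := r.ResidueField)).restrictScalars R).comp
    (IsScalarTower.toAlgHom R T Q.ResidueField)
  let ψ : W →ₐ[R] K := Algebra.pushoutDesc (R := R) (R' := T) W fS fT fun _ _ => Commute.all _ _
  obtain ⟨m, hm⟩ := Ideal.exists_maximal K
  refine ⟨m.comap ψ.toRingHom, inferInstance, ?_, ?_⟩
  · ext s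
    show ψ (algebraMap S W s) ∈ m ↔ s ∈ P
    rw [show ψ (algebraMap S W s) = fS s from Algebra.pushoutDesc_left (R := R) (R' := T) W fS fT (fun _ _ => Commute.all _ _) s]
    show (Algebra.TensorProduct.includeLeft : P.ResidueField →ₐ[r.ResidueField] K) (algebraMap S P.ResidueField s) ∈ m ↔ s ∈ P
    refine ⟨fun hs => ?_, fun hs => by rw [Ideal.algebraMap_residueField_eq_zero.2 hs, map_zero]; exact zero_mem m⟩
    by_contra hsP
    exact hm.ne_top (m.eq_top_of_isUnit_mem hs
      ((isUnit_iff_ne_zero.2 fun h0 => hsP (Ideal.algebraMap_residueField_eq_zero.1 h0)).map _))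
  · ext s
    show ψ (algebraMap T W s) ∈ m ↔ s ∈ Q
    rw [show ψ (algebraMap T W s) = fT s from Algebra.pushoutDesc_right (R := R) (R' := T) W fS fT (fun _ _ => Commute.all _ _) s]
    show (Algebra.TensorProduct.includeRight : Q.ResidueField →ₐ[r.ResidueField] K) (algebraMap T Q.ResidueField s) ∈ m ↔ s ∈ Q
    refine ⟨fun hs => ?_, fun hs => by rw [Ideal.algebraMap_residueField_eq_zero.2 hs, map_zero]; exact zero_mem m⟩
    by_contra hsP
    exact hm.ne_top (m.eq_top_of_isUnit_mem hs
      ((isUnit_iff_ne_zero.2 fun h0 => hsP (Ideal.algebraMap_residueField_eq_zero.1 h0)).map _))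

section Up

variable {R : Type u} [CommRing R] {B₀ : Type u} [CommRing B₀] [Algebra R B₀] [Algebra.FinitePresentation R B₀]
  (M₀ : Type u) [AddCommGroup M₀] [Module B₀ M₀] [Module R M₀] [IsScalarTower R B₀ M₀]

/-- Flatness at a point passes to a base change of the stage. -/
theorem flatAt_up {S BS NS T BT NT : Type u} [CommRing S] [Algebra R S] [CommRing BS] [Algebra R BS] [Algebra S BS]
    [Algebra B₀ BS] [IsScalarTower R S BS] [IsScalarTower R B₀ BS] [Algebra.IsPushout R S B₀ BS]
    [AddCommGroup NS] [Module BS NS] [Module B₀ NS] [IsScalarTower B₀ BS NS] [Module S NS] [IsScalarTower S BS NS]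
    {fS : M₀ →ₗ[B₀] NS} (hfS : IsBaseChange BS fS)
    [CommRing T] [Algebra R T] [CommRing BT] [Algebra R BT] [Algebra T BT] [Algebra B₀ BT] [IsScalarTower R T BT]
    [IsScalarTower R B₀ BT] [Algebra.IsPushout R T B₀ BT]
    [AddCommGroup NT] [Module BT NT] [Module B₀ NT] [IsScalarTower B₀ BT NT] [Module T NT] [IsScalarTower T BT NT]
    {fT : M₀ →ₗ[B₀] NT} (hfT : IsBaseChange BT fT)
    [Algebra S T] [IsScalarTower R S T] (β : BS →+* BT)
    (hβS : ∀ s, β (algebraMap S BS s) = algebraMap T BT (algebraMap S T s))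
    (hβB : ∀ b, β (algebraMap B₀ BS b) = algebraMap B₀ BT b) (q : Ideal BT) [q.IsPrime]
    (h : FlatCA.FlatAt S (q.comap β) NS) : FlatCA.FlatAt T q NT := by
  haveI : Module.Flat S (LocalizedModule (q.comap β).primeCompl NS) := h
  haveI := GrothLib.FlatLimit.flat_localized_congr (R := S) (q.comap β).primeCompl hfS.equiv.symm
  haveI := GrothLib.FlatLimit.flat_at_of_stage (A₀ := R) (A := T) (B₀ := B₀) (B := BT) M₀ β hβS hβB q inferInstance
  exact GrothLib.FlatLimit.flat_localized_congr q.primeCompl hfT.equiv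

end Up

variable {R A : Type u} [CommRing R] [CommRing A] [Algebra R A] {ι : Type u} (G : ι → Type u) [∀ i, CommRing (G i)]
  [∀ i, Algebra R (G i)] [∀ i, Algebra (G i) A] [∀ i, IsScalarTower R (G i) A]
  (hdir : ∀ i i' : ι, ∃ j, ∃ (φ : G i →ₐ[R] G j) (φ' : G i' →ₐ[R] G j),
    (∀ x, algebraMap (G j) A (φ x) = algebraMap (G i) A x) ∧
    ∀ x, algebraMap (G j) A (φ' x) = algebraMap (G i') A x)
  (hlift : ∀ T : Finset A, ∃ i, (T : Set A) ⊆ Set.range (algebraMap (G i) A))
  (heq : ∀ i (p : Finset (G i × G i)),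
    (∀ x ∈ p, algebraMap (G i) A x.1 = algebraMap (G i) A x.2) →
    ∃ j, ∃ ψ : G i →ₐ[R] G j, (∀ x, algebraMap (G j) A (ψ x) = algebraMap (G i) A x) ∧
      ∀ x ∈ p, ψ x.1 = ψ x.2)

include hdir hlift heq in
set_option maxHeartbeats 800000 in
/-- Flatness along a fibre comes from a stage. -/
theorem exists_stage_flat_fibre {B₀ : Type u} [CommRing B₀] [Algebra R B₀] [Algebra.FinitePresentation R B₀]
    (M₀ : Type u) [AddCommGroup M₀] [Module B₀ M₀] [Module R M₀] [IsScalarTower R B₀ M₀]
    [Module.FinitePresentation B₀ M₀]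
    {B N : Type u} [CommRing B] [Algebra R B] [Algebra A B] [Algebra B₀ B] [IsScalarTower R A B] [IsScalarTower R B₀ B]
    [Algebra.IsPushout R A B₀ B] [AddCommGroup N] [Module B N] [Module B₀ N] [IsScalarTower B₀ B N] [Module A N]
    [IsScalarTower A B N] {f : M₀ →ₗ[B₀] N} (hf : IsBaseChange B f) (p : Ideal A) [p.IsPrime]
    (hflat : ∀ (q : Ideal B) [q.IsPrime], q.LiesOver p → FlatCA.FlatAt A q N) :
    ∃ k, ∀ (Bk Nk : Type u) [CommRing Bk] [Algebra B₀ Bk] [Algebra (G k) Bk] [Algebra R Bk] [IsScalarTower R B₀ Bk]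
      [IsScalarTower R (G k) Bk] [Algebra.IsPushout R (G k) B₀ Bk]
      [AddCommGroup Nk] [Module Bk Nk] [Module B₀ Nk] [IsScalarTower B₀ Bk Nk] [Module (G k) Nk]
      [IsScalarTower (G k) Bk Nk] (fk : M₀ →ₗ[B₀] Nk), IsBaseChange Bk fk →
      ∀ (q : Ideal Bk) [q.IsPrime], q.LiesOver (p.comap (algebraMap (G k) A)) → FlatCA.FlatAt (G k) q Nk := by
  classical
  haveI : Nonempty ι := ⟨(hlift ∅).choose⟩
  let Z := PrimeSpectrum.comap (algebraMap A B) ⁻¹' {(⟨p, inferInstance⟩ : PrimeSpectrum A)}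
  have hZc : IsCompact Z := by
    let e := PrimeSpectrum.preimageHomeomorphFiber A B ⟨p, inferInstance⟩
    haveI : CompactSpace Z := e.symm.compactSpace
    exact isCompact_iff_compactSpace.2 inferInstance
  let pb (i : ι) : (G i ⊗[R] B₀) →ₐ[R] B :=
    Algebra.TensorProduct.lift ((IsScalarTower.toAlgHom R A B).comp (IsScalarTower.toAlgHom R (G i) A))
      (IsScalarTower.toAlgHom R B₀ B) fun _ _ => Commute.all _ _
  have hpbS : ∀ i s, pb i (algebraMap (G i) (G i ⊗[R] B₀) s) = algebraMap A B (algebraMap (G i) A s) := fun i s => by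
    show pb i (s ⊗ₜ (1 : B₀)) = _
    rw [Algebra.TensorProduct.lift_tmul, map_one, mul_one]
    rfl
  have hpbB : ∀ i b, pb i (algebraMap B₀ (G i ⊗[R] B₀) b) = algebraMap B₀ B b := fun i b => by
    show pb i ((1 : G i) ⊗ₜ b) = _
    rw [Algebra.TensorProduct.lift_tmul, map_one, one_mul]
    rfl
  have hpo : ∀ i, Algebra.IsPushout R (G i) B₀ (G i ⊗[R] B₀) := fun i => inferInstance
  -- a stage and an open of flatness at each point of the fibre
  have hpt : ∀ z : Z, ∃ (i : ι) (g : G i ⊗[R] B₀), pb i g ∉ z.1.asIdeal ∧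
      ∀ (Q : Ideal (G i ⊗[R] B₀)) [Q.IsPrime], g ∉ Q → FlatCA.FlatAt (G i) Q ((G i ⊗[R] B₀) ⊗[B₀] M₀) := by
    rintro ⟨z, hz⟩
    haveI : z.asIdeal.LiesOver p := ⟨(congrArg PrimeSpectrum.asIdeal (Set.mem_singleton_iff.1 hz)).symm⟩
    haveI : Module.Flat A (LocalizedModule z.asIdeal.primeCompl N) := hflat z.asIdeal inferInstance
    haveI := GrothLib.FlatLimit.flat_localized_congr (R := A) z.asIdeal.primeCompl hf.equiv.symm
    obtain ⟨i, hi⟩ := GrothLib.FlatLimit.exists_stage_flat_at' (A₀ := R) (A := A) (B₀ := B₀) (B := B) M₀ G hlift heq z.asIdeal inferInstance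
    haveI := hpo i
    haveI : Algebra.FinitePresentation (G i) (G i ⊗[R] B₀) := inferInstance
    haveI : Module.FinitePresentation (G i ⊗[R] B₀) ((G i ⊗[R] B₀) ⊗[B₀] M₀) := inferInstance
    have h0 := hi (G i ⊗[R] B₀) (pb i).toRingHom (hpbS i) (hpbB i)
    obtain ⟨_, ⟨g, rfl⟩, hg, hsub⟩ := PrimeSpectrum.isTopologicalBasis_basic_opens.exists_subset_of_mem_open
      (show (⟨z.asIdeal.comap (pb i).toRingHom, inferInstance⟩ : PrimeSpectrum (G i ⊗[R] B₀)) ∈
        {Q : PrimeSpectrum (G i ⊗[R] B₀) | Module.Flat (G i)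
          (LocalizedModule Q.asIdeal.primeCompl ((G i ⊗[R] B₀) ⊗[B₀] M₀))} from h0)
      (GrothLib.FibreFlat.isOpen_flat_locus)
    exact ⟨i, g, hg, fun Q _ hgQ => hsub (a := ⟨Q, inferInstance⟩) hgQ⟩
  choose idx g hg hgflat using hpt
  obtain ⟨t, ht⟩ := hZc.elim_finite_subcover (fun z : Z => (PrimeSpectrum.basicOpen (pb (idx z) (g z)) : Set (PrimeSpectrum B)))
    (fun z => (PrimeSpectrum.basicOpen _).2) (fun z hz => Set.mem_iUnion.2 ⟨⟨z, hz⟩, hg ⟨z, hz⟩⟩)
  obtain ⟨k, hk⟩ := GrothLib.FlatLimit.exists_common G hdir (t.image idx)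
  refine ⟨k, fun Bk Nk _ _ _ _ _ _ hpok _ _ _ _ _ _ fk hfk q _ hq => ?_⟩
  -- lift the point to the limit
  haveI hpo' : Algebra.IsPushout R A B₀ B := inferInstance
  haveI : Algebra.IsPushout R B₀ (G k) Bk := hpok.symm
  let β₀ : Bk →ₐ[R] B := Algebra.pushoutDesc (R := R) (R' := G k) Bk (IsScalarTower.toAlgHom R B₀ B)
    ((IsScalarTower.toAlgHom R A B).comp (IsScalarTower.toAlgHom R (G k) A)) fun _ _ => Commute.all _ _
  letI : Algebra Bk B := β₀.toRingHom.toAlgebra
  letI : Algebra (G k) B := ((algebraMap A B).comp (algebraMap (G k) A)).toAlgebra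
  haveI : IsScalarTower (G k) A B := IsScalarTower.of_algebraMap_eq fun _ => rfl
  haveI : IsScalarTower R (G k) B := IsScalarTower.of_algebraMap_eq fun r => by
    show algebraMap R B r = algebraMap A B (algebraMap (G k) A (algebraMap R (G k) r))
    rw [← IsScalarTower.algebraMap_apply R (G k) A, ← IsScalarTower.algebraMap_apply R A B]
  haveI : IsScalarTower (G k) Bk B := IsScalarTower.of_algebraMap_eq fun x => by
    show algebraMap A B (algebraMap (G k) A x) = β₀ _
    exact (Algebra.pushoutDesc_right (R := R) Bk (IsScalarTower.toAlgHom R B₀ B)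
      ((IsScalarTower.toAlgHom R A B).comp (IsScalarTower.toAlgHom R (G k) A)) (fun _ _ => Commute.all _ _) x).symm
  haveI : IsScalarTower B₀ Bk B := IsScalarTower.of_algebraMap_eq fun x => by
    show _ = β₀ _
    exact (Algebra.pushoutDesc_left (R := R) (R' := G k) Bk (IsScalarTower.toAlgHom R B₀ B)
      ((IsScalarTower.toAlgHom R A B).comp (IsScalarTower.toAlgHom R (G k) A)) (fun _ _ => Commute.all _ _) x).symm
  haveI : IsScalarTower R Bk B := IsScalarTower.of_algebraMap_eq fun r => (β₀.commutes r).symm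
  haveI : Algebra.IsPushout (G k) A Bk B :=
    (Algebra.IsPushout.comp_iff R (G k) B₀ Bk (T := A) (T' := B)).1 hpo'
  obtain ⟨M, hM, hMp, hMq⟩ := exists_prime_pushout (R := G k) (S := A) (T := Bk) (W := B) p q hq.over
  obtain ⟨z, hz, hMz⟩ := Set.mem_iUnion₂.1 (ht (show (⟨M, hM⟩ : PrimeSpectrum B) ∈ Z from
    Set.mem_singleton_iff.2 (PrimeSpectrum.ext hMp)))
  obtain ⟨φ, hφ⟩ := hk (idx z) (Finset.mem_image_of_mem idx hz)
  let i := idx z
  letI : Algebra (G i) (G k) := φ.toRingHom.toAlgebra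
  haveI : IsScalarTower R (G i) (G k) := IsScalarTower.of_algebraMap_eq fun r => (φ.commutes r).symm
  let β : (G i ⊗[R] B₀) →ₐ[R] Bk :=
    Algebra.TensorProduct.lift ((IsScalarTower.toAlgHom R (G k) Bk).comp φ) (IsScalarTower.toAlgHom R B₀ Bk)
      fun _ _ => Commute.all _ _
  haveI := hpo i
  refine flatAt_up (R := R) M₀ (TensorProduct.isBaseChange B₀ M₀ (G i ⊗[R] B₀)) hfk β.toRingHom (fun s => ?_) (fun b => ?_) q
    (hgflat z (q.comap β.toRingHom) fun hgq => hMz ?_)
  · show β (s ⊗ₜ (1 : B₀)) = _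
    rw [Algebra.TensorProduct.lift_tmul, map_one, mul_one]
    rfl
  · show β ((1 : G i) ⊗ₜ b) = _
    rw [Algebra.TensorProduct.lift_tmul, map_one, one_mul]
    rfl
  · have hcomp : (IsScalarTower.toAlgHom R Bk B).comp β = pb i := by
      refine Algebra.TensorProduct.ext (AlgHom.ext fun s => ?_) (AlgHom.ext fun b => ?_)
      · show algebraMap Bk B (β (s ⊗ₜ (1 : B₀))) = pb i (s ⊗ₜ (1 : B₀))
        rw [Algebra.TensorProduct.lift_tmul, Algebra.TensorProduct.lift_tmul, map_one, map_one, mul_one, mul_one]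
        show algebraMap Bk B (algebraMap (G k) Bk (φ s)) = algebraMap A B (algebraMap (G i) A s)
        rw [← IsScalarTower.algebraMap_apply (G k) Bk B, IsScalarTower.algebraMap_apply (G k) A B, hφ]
      · show algebraMap Bk B (β ((1 : G i) ⊗ₜ b)) = pb i ((1 : G i) ⊗ₜ b)
        rw [Algebra.TensorProduct.lift_tmul, Algebra.TensorProduct.lift_tmul, map_one, map_one, one_mul, one_mul]
        exact (IsScalarTower.algebraMap_apply B₀ Bk B b).symm
    show pb i (g z) ∈ M
    rw [← hcomp]
    exact hMq.symm.le hgq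

include hdir hlift heq in
/-- An equation `s * x ∈ I` at the limit comes from a stage. -/
theorem exists_stage_mem {R' : Type u} [CommRing R'] [Algebra R R'] (I : Ideal R') (x : R')
    (s : R' ⊗[R] A)
    (h : s * (x ⊗ₜ[R] (1 : A)) ∈ I.map (algebraMap R' (R' ⊗[R] A))) :
    ∃ (k : ι) (s' : R' ⊗[R] G k),
      Algebra.TensorProduct.map (AlgHom.id R R') (IsScalarTower.toAlgHom R (G k) A) s' = s ∧
      s' * (x ⊗ₜ[R] (1 : G k)) ∈ I.map (algebraMap R' (R' ⊗[R] G k)) := by
  classical
  haveI : Nonempty ι := ⟨(hlift ∅).choose⟩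
  -- a preimage of the coefficient
  have hs : ∀ w : R' ⊗[R] A, ∃ (k : ι) (w' : R' ⊗[R] G k),
      Algebra.TensorProduct.map (AlgHom.id R R') (IsScalarTower.toAlgHom R (G k) A) w' = w := by
    intro w
    induction w using TensorProduct.induction_on with
    | zero => exact ⟨(hlift ∅).choose, 0, map_zero _⟩
    | add a b ha hb =>
      obtain ⟨i, a', ha'⟩ := ha
      obtain ⟨i', b', hb'⟩ := hb
      obtain ⟨j, φ, φ', hφ, hφ'⟩ := hdir i i'
      have hc : ∀ {i : ι} (φ : G i →ₐ[R] G j), (∀ y, algebraMap (G j) A (φ y) = algebraMap (G i) A y) → ∀ w,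
          Algebra.TensorProduct.map (AlgHom.id R R') (IsScalarTower.toAlgHom R (G j) A)
            (Algebra.TensorProduct.map (AlgHom.id R R') φ w) =
          Algebra.TensorProduct.map (AlgHom.id R R') (IsScalarTower.toAlgHom R (G i) A) w := by
        intro i φ hφ w
        induction w using TensorProduct.induction_on with
        | zero => simp
        | add a b ha hb => simp only [map_add, ha, hb]
        | tmul r y => simp [hφ]
      refine ⟨j, Algebra.TensorProduct.map (AlgHom.id R R') φ a' + Algebra.TensorProduct.map (AlgHom.id R R') φ' b', ?_⟩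
      rw [map_add, hc φ hφ, hc φ' hφ', ha', hb']
    | tmul r a =>
      obtain ⟨i, hi⟩ := hlift {a}
      obtain ⟨y, hy⟩ := hi (Finset.mem_coe.2 (Finset.mem_singleton_self a))
      exact ⟨i, r ⊗ₜ y, by simp [hy]⟩
  obtain ⟨i, s₁, hs₁⟩ := hs s
  -- vanishing in the quotient comes from a stage
  let π (S : Type u) [CommRing S] [Algebra R S] : R' ⊗[R] S →ₐ[R] (R' ⧸ I) ⊗[R] S :=
    Algebra.TensorProduct.map (IsScalarTower.toAlgHom R R' (R' ⧸ I)) (AlgHom.id R S)
  have hker : ∀ (S : Type u) [CommRing S] [Algebra R S] (w : R' ⊗[R] S),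
      π S w = 0 ↔ w ∈ I.map (algebraMap R' (R' ⊗[R] S)) := by
    intro S _ _ w
    have h1 := Algebra.TensorProduct.rTensor_ker (R := R) (S := R) (C := S) (IsScalarTower.toAlgHom R R' (R' ⧸ I)) Ideal.Quotient.mk_surjective
    have h2 : RingHom.ker (IsScalarTower.toAlgHom R R' (R' ⧸ I)) = I := Ideal.mk_ker
    rw [h2] at h1
    rw [← RingHom.mem_ker]
    exact SetLike.ext_iff.1 h1 w
  let z : G i ⊗[R] (R' ⧸ I) := Algebra.TensorProduct.comm R (R' ⧸ I) (G i) (π (G i) (s₁ * (x ⊗ₜ (1 : G i))))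
  have key : ∀ (i : ι) (w : R' ⊗[R] G i),
      (IsScalarTower.toAlgHom R (G i) A).toLinearMap.rTensor (R' ⧸ I) (Algebra.TensorProduct.comm R (R' ⧸ I) (G i) (π (G i) w)) =
      Algebra.TensorProduct.comm R (R' ⧸ I) A (π A (Algebra.TensorProduct.map (AlgHom.id R R') (IsScalarTower.toAlgHom R (G i) A) w)) := by
    intro i w
    induction w using TensorProduct.induction_on with
    | zero => simp
    | add a b ha hb => simp only [map_add, ha, hb]
    | tmul r y => simp [π]
  have hz : (IsScalarTower.toAlgHom R (G i) A).toLinearMap.rTensor (R' ⧸ I) z = 0 := by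
    rw [key, map_mul, hs₁, Algebra.TensorProduct.map_tmul, map_one, AlgHom.id_apply, (hker A _).2 h, map_zero]
  obtain ⟨j, ψ, hψ, hψz⟩ := GrothLib.FlatLimit.exists_stage_tmul_eq_zero (A := A) G hdir hlift heq i z hz
  have hcc : ∀ w : R' ⊗[R] G i,
      Algebra.TensorProduct.map (AlgHom.id R R') (IsScalarTower.toAlgHom R (G j) A)
        (Algebra.TensorProduct.map (AlgHom.id R R') ψ w) =
      Algebra.TensorProduct.map (AlgHom.id R R') (IsScalarTower.toAlgHom R (G i) A) w := by
    intro w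
    induction w using TensorProduct.induction_on with
    | zero => simp
    | add a b ha hb => simp only [map_add, ha, hb]
    | tmul r y => simp [hψ]
  refine ⟨j, Algebra.TensorProduct.map (AlgHom.id R R') ψ s₁, ?_, (hker _ _).1 ?_⟩
  · rw [← hs₁]
    exact hcc s₁
  · refine (Algebra.TensorProduct.comm R (R' ⧸ I) (G j)).injective ?_
    rw [map_zero, ← hψz]
    have key2 : ∀ w : R' ⊗[R] G i,
        ψ.toLinearMap.rTensor (R' ⧸ I) (Algebra.TensorProduct.comm R (R' ⧸ I) (G i) (π (G i) w)) =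
        Algebra.TensorProduct.comm R (R' ⧸ I) (G j) (π (G j) (Algebra.TensorProduct.map (AlgHom.id R R') ψ w)) := by
      intro w
      induction w using TensorProduct.induction_on with
      | zero => simp
      | add a b ha hb => simp only [map_add, ha, hb]
      | tmul r y => simp [π]
    rw [key2, map_mul (Algebra.TensorProduct.map (AlgHom.id R R') ψ), Algebra.TensorProduct.map_tmul, map_one, AlgHom.id_apply]

end GrothLib.PureDesc13
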